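import Groth.Agent.Lib.LineFlag12.Split
import Groth.Agent.Lib.Tango28.Forms
import Groth.Agent.Lib.CurveMult.SepRat
import Groth.Agent.Lib.HypSurf.Chart
import Groth.Agent.Lib.HypSep5.Basic

/-!
# The pencil of hyperplanes through a point
-/

set_option autoImplicit false
set_option linter.all false
set_option maxHeartbeats 1600000
set_option backward.isDefEq.respectTransparency false

universe u

open CategoryTheory CategoryTheory.Limits AlgebraicGeometry TopologicalSpace Opposite
open GrothLib.InvExt (mres IsGen)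
open GrothLib.Ample (res)
open GrothLib.Ample.ProjTwist (ev evT evT_ext ev_ext)
open GrothLib.GrTilde (fracT)

noncomputable section

namespace GrothLib.LinesPt28

variable {r : ℕ} {k : Type u} [Field k]

local notation "P" => CohB1.polyGrading r k

/-- A linear form. -/
abbrev frm (c : Fin (r + 1) → k) : LefPen.Form r k 1 := ⟨Tango28.form c, Tango28.form_mem c⟩

theorem frm_ne_zero {c : Fin (r + 1) → k} (hc : c ≠ 0) : frm c ≠ 0 :=
  fun h => Tango28.form_ne_zero hc (congrArg Subtype.val h)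

/-- A fixed trivialisation of `O(0)`. -/
def e0 (r : ℕ) (k : Type u) [Field k] :
    Coh.structureModule (CohB1.ProjSpace r k) ≅ Twist.twistProjSpace r k 0 :=
  (GrTilde.nonempty_structureModule_iso_twist_zero (CohB1.polyGrading r k)).some

/-- A linear form as a map `O(-1) ⟶ O`. -/
def iota (r : ℕ) (k : Type u) [Field k] :
    (Fin (r + 1) → k) →ₗ[k] (Twist.twistProjSpace r k (-1) ⟶ Coh.structureModule (CohB1.ProjSpace r k)) :=
  (Linear.rightComp k (Twist.twistProjSpace r k (-1)) (e0 r k).inv).comp (Tango28.lin (n := r) (k := k))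

theorem iota_eq (c : Fin (r + 1) → k) :
    iota r k c = HypSurf.mulG (frm c) ≫ (e0 r k).inv := by
  show Tango28.lin c ≫ (e0 r k).inv = _
  refine congrArg (· ≫ (e0 r k).inv) ?_
  refine Scheme.Modules.hom_ext _ _ fun U => ?_
  ext m
  refine evT_ext fun y => ?_
  refine (Tango28.evT_lin_app c m y).trans ?_
  refine Eq.trans ?_ (HypSurf.mulG_app (frm c) m y).symm
  refine congrArg (fun z => z * evT y m) ?_
  refine (Localization.mk_one_eq_algebraMap _).symm.trans ?_
  exact (GrTilde.evT_fracT (𝒜 := CohB1.polyGrading r k) (V := U) (frm c).1 1 (frm c).2 SetLike.GradedOne.one_mem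
    HypSurf.one_nin (k := ((1 : ℕ) : ℤ)) (by simp) y).symm

/-- The sequence of the linear form, for any presentation of the hyperplane. -/
theorem exists_seq (G : LefPen.Form r k 1) (hG : G ≠ 0) {Y : Scheme.{u}} (j0 : Y ⟶ CohB1.ProjSpace r k)
    [IsClosedImmersion j0] (hj0 : j0.ker = LefPen.hypIdeal G)
    (e0 : Coh.structureModule (CohB1.ProjSpace r k) ≅ Twist.twistProjSpace r k 0) :
    ∃ (w : (HypSurf.mulG G ≫ e0.inv) ≫ ClSub.unitToPush j0 = 0),
      (ShortComplex.mk (HypSurf.mulG G ≫ e0.inv) (ClSub.unitToPush j0) w).ShortExact := by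
  let d : ℕ := 1
  classical
  let ι : Twist.twistProjSpace r k (-(d : ℤ)) ⟶ Coh.structureModule (CohB1.ProjSpace r k) := HypSurf.mulG G ≫ e0.inv
  -- generators on a chart
  have key : ∀ (j : Fin (r + 1)) (T : (CohB1.ProjSpace r k).Opens) (hT : T ≤ LefPen.chart r k j),
      ∃ g : Γ(Twist.twist P (-(d : ℤ)), T), ∃ v : Γ(CohB1.ProjSpace r k, T), IsUnit v ∧
        (Function.Bijective fun c : Γ(CohB1.ProjSpace r k, T) => c • g) ∧
        ∀ c : Γ(CohB1.ProjSpace r k, T), (show Γ(CohB1.ProjSpace r k, T) from ι.app T (c • g)) = c * v * res hT (LefPen.dehom G j) := by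
    intro j T hT
    let g : Γ(Twist.twist P (-(d : ℤ)), T) := fracT (k := -(d : ℤ)) (1 : MvPolynomial (Fin (r + 1)) k) (MvPolynomial.X j ^ d)
      SetLike.GradedOne.one_mem (SetLike.pow_mem_graded d (LefPen.X_mem r k j))
      (fun y => fun h => hT y.2 (y.1.isPrime.mem_of_pow_mem _ h)) (by simp)
    have hg := GrTilde.isGen_fracT (V := T) (k := -(d : ℤ)) SetLike.GradedOne.one_mem
      (SetLike.pow_mem_graded d (LefPen.X_mem r k j)) HypSurf.one_nin
      (fun y => fun h => hT y.2 (y.1.isPrime.mem_of_pow_mem _ h)) (by simp) T le_rfl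
    simp only [InvExt.mres_self] at hg
    let one0 : Γ(Twist.twist P 0, T) :=
      fracT (1 : MvPolynomial (Fin (r + 1)) k) 1 SetLike.GradedOne.one_mem SetLike.GradedOne.one_mem HypSurf.one_nin (by simp)
    let v : Γ(CohB1.ProjSpace r k, T) := e0.inv.app T one0
    refine ⟨g, v, ?_, hg, fun c => ?_⟩
    · obtain ⟨c, hc⟩ := (GrTilde.bijective_smul_one (𝒜 := P) T).2 (e0.hom.app T (1 : Γ(CohB1.ProjSpace r k, T)))
      refine IsUnit.of_mul_eq_one c ?_
      have h := congrArg (e0.inv.app T) hc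
      rw [mul_comm]
      refine ((Ample.app_smul e0.inv c one0).symm.trans h).trans ?_
      exact congrArg (fun φ : Coh.structureModule (Proj P) ⟶ Coh.structureModule (Proj P) =>
        φ.app T (1 : Γ(CohB1.ProjSpace r k, T))) e0.hom_inv_id
    · show e0.inv.app T ((HypSurf.mulG G).app T (c • g)) = _
      rw [Ample.app_smul, HypSurf.mulG_gen G j hT, smul_smul, Ample.app_smul]
      show c * res hT (LefPen.dehom G j) * v = _
      ring
  have hker : ∀ (T : (CohB1.ProjSpace r k).affineOpens) (j : Fin (r + 1)) (hT : T.1 ≤ LefPen.chart r k j),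
      RingHom.ker (j0.app T.1).hom = Ideal.span {res hT (LefPen.dehom G j)} := fun T j hT => by
    rw [← HypSurf.hypIdeal_ideal_eq G T j hT]
    rw [← hj0, Scheme.Hom.ker_apply]
  have hdz : ∀ (j : Fin (r + 1)) (T : (CohB1.ProjSpace r k).Opens) (hT : T ≤ LefPen.chart r k j),
      j0.app T (res hT (LefPen.dehom G j)) = 0 := fun j T hT => by
    have h := (hker ⟨_, HypSurf.isAffineOpen_chart (k := k) j⟩ j le_rfl).ge (Ideal.mem_span_singleton_self _)
    rw [RingHom.mem_ker, Ample.res_self] at h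
    refine (ConcreteCategory.congr_hom (j0.naturality (homOfLE hT).op) (LefPen.dehom G j)).trans ?_
    rw [ConcreteCategory.comp_apply]
    exact (congrArg _ h).trans (map_zero _)
  have hcov : ⨆ j : Fin (r + 1), LefPen.chart r k j = ⊤ := Ample.ProjMap.iSup_basicOpen_X r k
  have w : ι ≫ ClSub.unitToPush j0 = 0 := by
    refine Scheme.Modules.hom_ext _ _ fun U => ?_
    ext (b : Γ(Twist.twist P (-(d : ℤ)), U))
    have hU : ⨆ j : ULift.{u} (Fin (r + 1)), U ⊓ LefPen.chart r k j.down = U :=
      le_antisymm (iSup_le fun _ => inf_le_left) fun x hx => by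
        obtain ⟨j, hj⟩ := Opens.mem_iSup.1 (hcov.ge (Opens.mem_top x))
        exact Opens.mem_iSup.2 ⟨⟨j⟩, hx, hj⟩
    refine Ample.meq_of_cover ((Scheme.Modules.pushforward j0).obj (Coh.structureModule _))
      (fun j : ULift.{u} (Fin (r + 1)) => U ⊓ LefPen.chart r k j.down) (fun _ => inf_le_left) hU.ge fun j => ?_
    refine Eq.trans ?_ (map_zero _).symm
    show mres _ _ ((ι ≫ ClSub.unitToPush j0).app U b) = _
    rw [← Ample.app_mres]
    obtain ⟨g, v, -, hg, hι⟩ := key j.down (U ⊓ LefPen.chart r k j.down) inf_le_right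
    obtain ⟨c, hc⟩ := hg.2 (mres _ (inf_le_left : U ⊓ LefPen.chart r k j.down ≤ U) b)
    show (ClSub.unitToPush j0).app _ (ι.app _ _) = _
    refine (congrArg (fun z => j0.app (U ⊓ LefPen.chart r k j.down) (ι.app (U ⊓ LefPen.chart r k j.down) z)) hc.symm).trans ?_
    refine (congrArg (j0.app (U ⊓ LefPen.chart r k j.down)).hom (hι c)).trans ?_
    rw [map_mul]
    exact mul_eq_zero_of_right _ (hdz j.down _ inf_le_right)
  refine ⟨w, CMReg.shortExact_of_local j0 ι w fun x => ?_⟩
  obtain ⟨j, hj⟩ := Opens.mem_iSup.1 (hcov.ge (Opens.mem_top x))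
  refine ⟨LefPen.chart r k j, hj, fun T hT => ?_⟩
  obtain ⟨g, v, hv, hg, hι⟩ := key j T.1 hT
  refine ⟨fun a a' h => ?_, fun s hs => ?_⟩
  · obtain ⟨c, rfl⟩ := hg.2 a
    obtain ⟨c', rfl⟩ := hg.2 a'
    by_cases hne : Nonempty T.1
    · haveI : IsIntegral (CohB1.ProjSpace r k) := ProjDim.isIntegral_proj k r
      have ht : res hT (LefPen.dehom G j) ≠ 0 := by
        intro h0
        apply hG
        have h1 : LefPen.dehom G j = 0 :=
          map_injective_of_isIntegral (CohB1.ProjSpace r k) (homOfLE hT) (h0.trans (map_zero _).symm)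
        obtain ⟨y⟩ := hne
        have h2 := HypSurf.ev_dehom G j ⟨y.1, hT y.2⟩
        have h3 := ((congrArg (Ample.ProjTwist.ev (⟨y.1, hT y.2⟩ : LefPen.chart r k j)) h1).symm.trans h2).symm.trans
          (show (0 : HomogeneousLocalization.AtPrime P y.1.asHomogeneousIdeal.toIdeal).val = 0 from HomogeneousLocalization.val_zero)
        rw [Localization.mk_eq_mk', IsLocalization.mk'_eq_zero_iff] at h3
        obtain ⟨⟨m, hm⟩, hm'⟩ := h3
        refine Subtype.ext ((mul_eq_zero.1 hm').resolve_left fun h' => hm ?_)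
        rw [show m = 0 from h']
        exact zero_mem _
      have h' : c * v * res hT (LefPen.dehom G j) = c' * v * res hT (LefPen.dehom G j) :=
        (hι c).symm.trans (h.trans (hι c'))
      rw [hv.mul_right_cancel (mul_right_cancel₀ ht h')]
    · have hbot : T.1 = ⊥ := Opens.ext (Set.eq_empty_of_forall_notMem fun z hz => hne ⟨⟨z, hz⟩⟩)
      haveI : Subsingleton Γ(CohB1.ProjSpace r k, T.1) :=
        CommRingCat.subsingleton_of_isTerminal ((CohB1.ProjSpace r k).sheaf.isTerminalOfEqEmpty hbot)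
      rw [Subsingleton.elim c c']
  · have hs' : s ∈ RingHom.ker (j0.app T.1).hom := hs
    rw [hker T j hT, Ideal.mem_span_singleton'] at hs'
    obtain ⟨c, hc⟩ := hs'
    refine ⟨(c * ↑hv.unit⁻¹) • g, ?_⟩
    refine (hι _).trans ?_
    rw [mul_assoc c, hv.val_inv_mul, mul_one]
    exact hc


theorem exists_seq_iota (c : Fin (r + 1) → k) (hc : c ≠ 0) {Y : Scheme.{u}} (j0 : Y ⟶ CohB1.ProjSpace r k)
    [IsClosedImmersion j0] (hj0 : j0.ker = LefPen.hypIdeal (frm c)) :
    ∃ (w : iota r k c ≫ ClSub.unitToPush j0 = 0),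
      (ShortComplex.mk (iota r k c) (ClSub.unitToPush j0) w).ShortExact := by
  rw [iota_eq]
  exact exists_seq (frm c) (frm_ne_zero hc) j0 hj0 (e0 r k)

/-- A nonzero linear form defines a linearly embedded hyperplane. -/
theorem exists_hyperplane {n : ℕ} (c : Fin (n + 1 + 1) → k) (hc : c ≠ 0) :
    ∃ (j : CohB1.ProjSpace n k ⟶ CohB1.ProjSpace (n + 1) k), IsClosedImmersion j ∧
      j.ker = LefPen.hypIdeal (frm c) ∧
      j ≫ CohB1.ProjSpace.toSpec (n + 1) k = CohB1.ProjSpace.toSpec n k ∧
      Nonempty ((Scheme.Modules.pullback j).obj (Twist.twistProjSpace (n + 1) k 1) ≅ Twist.twistProjSpace n k 1) := by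
  classical
  let A := CohB1.polyGrading (n + 1) k
  let B := CohB1.polyGrading n k
  obtain ⟨ψ, hψs, hker, hψC⟩ :=
    Groth.Agent.S7676.exists_projection k n (frm c).1 (frm c).2 (Tango28.form_ne_zero hc)
  have hψ := Groth.Agent.S7676.irrelevant_le_map A B ψ hψs
  let j : CohB1.ProjSpace n k ⟶ CohB1.ProjSpace (n + 1) k := Proj.map ψ hψ
  haveI hjc : IsClosedImmersion j := GradedAlg.isClosedImmersion_map ψ hψ hψs
  let x : ULift.{u} (Fin (n + 1 + 1)) → MvPolynomial (Fin (n + 1 + 1)) k := fun i => MvPolynomial.X i.down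
  have hx : ∀ i, x i ∈ A 1 := fun i => MvPolynomial.isHomogeneous_X k i.down
  have hcov : ⨆ i, Proj.basicOpen A (x i) = ⊤ := eq_top_iff.mpr fun p _ => by
    obtain ⟨i, hi⟩ := Opens.mem_iSup.mp ((Ample.ProjMap.iSup_basicOpen_X (n + 1) k).ge (Opens.mem_top p))
    exact Opens.mem_iSup.mpr ⟨⟨i⟩, hi⟩
  refine ⟨j, hjc, ?_, ?_, Hyperplane.nonempty_pullback_twist_one ψ hψ x hx hcov⟩
  · refine Scheme.IdealSheafData.ext_of_iSup_eq_top (fun i => GradedAlg.dPlus A (x i) (hx i) one_pos) hcov fun i => ?_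
    rw [HypSurf.hypIdeal_ideal_eq (frm c) (GradedAlg.dPlus A (x i) (hx i) one_pos) i.down le_rfl, Ample.res_self,
      Scheme.Hom.ker_apply]
    have hbij := GradedAlg.awayToSection_bijective (𝒜 := A) (x i) (hx i) one_pos
    apply Ideal.comap_injective_of_surjective _ hbij.2
    have hr : Ideal.comap (Proj.awayToSection A (x i)).hom
        (Ideal.span {(Proj.awayToSection A (x i)).hom (HomogeneousLocalization.Away.mk A (hx i) 1 (frm c).1 (by rw [smul_eq_mul, mul_one]; exact (frm c).2))}) =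
        Ideal.span {HomogeneousLocalization.Away.mk A (hx i) 1 (frm c).1 (by rw [smul_eq_mul, mul_one]; exact (frm c).2)} := by
      have h2 := Ideal.comap_map_of_bijective (Proj.awayToSection A (x i)).hom hbij
        (I := Ideal.span {HomogeneousLocalization.Away.mk A (hx i) 1 (frm c).1 (by rw [smul_eq_mul, mul_one]; exact (frm c).2)})
      rwa [Ideal.map_span, Set.image_singleton] at h2
    refine Eq.trans ?_ hr.symm
    rw [RingHom.comap_ker]
    have h := congrArg CommRingCat.Hom.hom (Proj.awayToSection_comp_appLE ψ hψ (i := 1) (s := x i) (hx i))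
    rw [CommRingCat.hom_comp, CommRingCat.hom_comp] at h
    rw [Scheme.Hom.app_eq_appLE]
    change RingHom.ker (((Proj.map ψ hψ).appLE (Proj.basicOpen A (x i))
      (Proj.basicOpen B (ψ (x i))) (by rfl)).hom.comp (Proj.awayToSection A (x i)).hom) = _
    rw [h, RingHom.ker_comp_of_injective _ (GradedAlg.awayToSection_bijective (ψ (x i)) (ψ.2 (hx i)) one_pos).1]
    exact Hyperplane.ker_away_map (frm c).2 ψ hker (hx i)
  · show Proj.map ψ hψ ≫ Proj.toSpecZero A ≫ _ = Proj.toSpecZero _ ≫ _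
    rw [← Category.assoc, RelProjK.map_toSpecZero, Category.assoc, ← Spec.map_comp]
    congr 2
    refine CommRingCat.hom_ext (RingHom.ext fun b => Subtype.ext ?_)
    show ψ (MvPolynomial.C b) = MvPolynomial.C b
    exact hψC b

/-- A point of a chart lies on the hyperplane exactly when the dehomogenised form vanishes at it. -/
theorem mem_range_iff {Y : Scheme.{u}} (j0 : Y ⟶ CohB1.ProjSpace r k) [IsClosedImmersion j0]
    (G : LefPen.Form r k 1) (hj0 : j0.ker = LefPen.hypIdeal G) (i : Fin (r + 1)) {x : ↥(CohB1.ProjSpace r k)}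
    (hx : x ∈ LefPen.chart r k i) :
    x ∈ Set.range j0.base ↔ ((CohB1.ProjSpace r k).evaluation (LefPen.chart r k i) x hx).hom (LefPen.dehom G i) = 0 := by
  let U : (CohB1.ProjSpace r k).affineOpens := ⟨LefPen.chart r k i, HypSurf.isAffineOpen_chart i⟩
  have h1 : ((LefPen.hypIdeal G).support : Set ↥(CohB1.ProjSpace r k)) = Set.range j0.base := by
    rw [← hj0, Scheme.Hom.support_ker]
    exact j0.isClosedEmbedding.isClosed_range.closure_eq
  have h2 := Set.ext_iff.1 ((LefPen.hypIdeal G).coe_support_inter U) x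
  simp only [Set.mem_inter_iff] at h2
  rw [← h1]
  refine (iff_of_eq (by simp [U, hx] : (x ∈ ((LefPen.hypIdeal G).support : Set _)) =
    (x ∈ ((LefPen.hypIdeal G).support : Set _) ∧ x ∈ (U.1 : Set _)))).trans (h2.trans ?_)
  rw [HypSurf.hypIdeal_ideal_eq G U i le_rfl, Ample.res_self, Scheme.zeroLocus_span,
    Scheme.zeroLocus_singleton, Scheme.evaluation_eq_zero_iff_notMem_basicOpen]
  exact ⟨fun h => h.1, fun h => ⟨h, hx⟩⟩

theorem dehom_add (c d : Fin (r + 1) → k) (i : Fin (r + 1)) :
    LefPen.dehom (frm (c + d)) i = LefPen.dehom (frm c) i + LefPen.dehom (frm d) i := by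
  refine ev_ext fun y => ?_
  rw [show ev y (LefPen.dehom (frm c) i + LefPen.dehom (frm d) i) =
    ev y (LefPen.dehom (frm c) i) + ev y (LefPen.dehom (frm d) i) from HomogeneousLocalization.val_add _ _, HypSurf.ev_dehom, HypSurf.ev_dehom, HypSurf.ev_dehom, Localization.add_mk_self]
  congr 1
  exact map_add _ _ _

theorem dehom_smul (a : k) (c : Fin (r + 1) → k) (i : Fin (r + 1)) :
    LefPen.dehom (frm (a • c)) i = res (le_top : LefPen.chart r k i ≤ ⊤)
      (Coh.toGlobal (CohB1.ProjSpace r k ↘ Spec (CommRingCat.of k)) a) * LefPen.dehom (frm c) i := by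
  refine ev_ext fun y => ?_
  rw [Ample.ProjTwist.ev_mul, HypSurf.ev_dehom, HypSurf.ev_dehom]
  refine Eq.trans ?_ (congrArg (fun z => z * _) (Tango28.ev_const a _ y)).symm
  rw [← Localization.mk_one_eq_algebraMap, Localization.mk_mul, one_mul]
  congr 1
  show Tango28.form (a • c) = MvPolynomial.C a * Tango28.form c
  rw [map_smul, MvPolynomial.smul_eq_C_mul]

attribute [local instance] Curv2.resAlgebra

/-- Two independent forms vanishing at a rational point. -/
theorem exists_pencil [IsAlgClosed k] (hr : 2 ≤ r) {x : ↥(CohB1.ProjSpace r k)}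
    (hx : IsClosed ({x} : Set ↥(CohB1.ProjSpace r k))) :
    ∃ c₁ c₂ : Fin (r + 1) → k, (∀ a b : k, (a ≠ 0 ∨ b ≠ 0) → a • c₁ + b • c₂ ≠ 0) ∧
      ∀ a b : k, ∀ {Y : Scheme.{u}} (j0 : Y ⟶ CohB1.ProjSpace r k) [IsClosedImmersion j0],
        j0.ker = LefPen.hypIdeal (frm (a • c₁ + b • c₂)) → x ∈ Set.range j0.base := by
  classical
  obtain ⟨i, hi⟩ : ∃ i, x ∈ LefPen.chart r k i :=
    Opens.mem_iSup.1 ((Ample.ProjMap.iSup_basicOpen_X r k).ge (Opens.mem_top x))
  letI : (CohB1.ProjSpace r k).Over (Spec (CommRingCat.of k)) := ⟨CohB1.ProjSpace.toSpec r k⟩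
  haveI := ProjDim.locallyOfFiniteType_toSpec k r
  haveI : LocallyOfFiniteType (CohB1.ProjSpace r k ↘ Spec (CommRingCat.of k)) :=
    inferInstanceAs (LocallyOfFiniteType (CohB1.ProjSpace.toSpec r k))
  have hs := CurveMult.bijective_resMap_of_section k
    (pointOfClosedPoint (CohB1.ProjSpace r k ↘ Spec (CommRingCat.of k)) x hx)
    (pointOfClosedPoint_comp _ x hx) (IsLocalRing.closedPoint k)
  have hpt : (pointOfClosedPoint (CohB1.ProjSpace r k ↘ Spec (CommRingCat.of k)) x hx) (IsLocalRing.closedPoint k) = x := by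
    simp
  rw [hpt] at hs
  let ρ : k ≃+* (CohB1.ProjSpace r k).residueField x := RingEquiv.ofBijective _ hs
  let ev' : Γ(CohB1.ProjSpace r k, LefPen.chart r k i) →+* (CohB1.ProjSpace r k).residueField x :=
    ((CohB1.ProjSpace r k).evaluation (LefPen.chart r k i) x hi).hom
  let φ : (Fin (r + 1) → k) →ₗ[k] k :=
    { toFun := fun c => ρ.symm (ev' (LefPen.dehom (frm c) i))
      map_add' := fun c d => by rw [dehom_add, map_add, map_add]
      map_smul' := fun a c => by
        rw [dehom_smul, map_mul, map_mul, RingHom.id_apply, smul_eq_mul]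
        congr 1
        rw [RingEquiv.symm_apply_eq]
        exact HypSep5.evaluation_const _ x hi a }
  have hk : r ≤ Module.finrank k (LinearMap.ker φ) := by
    have h1 := LinearMap.finrank_range_add_finrank_ker φ
    have h2 := Submodule.finrank_le (LinearMap.range φ)
    rw [Module.finrank_fintype_fun_eq_card, Fintype.card_fin] at h1
    rw [Module.finrank_self] at h2
    omega
  let b := Module.finBasis k (LinearMap.ker φ)
  let v : Fin 2 → Fin (r + 1) → k := fun l => (b ⟨l.1, lt_of_lt_of_le l.2 (hr.trans hk)⟩).1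
  have hv : LinearIndependent k v :=
    (b.linearIndependent.map' _ (Submodule.ker_subtype _)).comp _ fun p q h => Fin.ext (by simpa using h)
  refine ⟨v 0, v 1, fun a b' hab h => ?_, fun a b' Y j0 _ hj => ?_⟩
  · have h3 := Fintype.linearIndependent_iff.1 hv ![a, b'] (by rw [Fin.sum_univ_two]; exact h)
    rcases hab with ha | hb'
    · exact ha (h3 0)
    · exact hb' (h3 1)
  · rw [mem_range_iff j0 _ hj i hi]
    have h4 : φ (a • v 0 + b' • v 1) = 0 := LinearMap.mem_ker.1
      (Submodule.add_mem _ (Submodule.smul_mem _ a (b _).2) (Submodule.smul_mem _ b' (b _).2))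
    exact ρ.symm.injective (h4.trans (map_zero _).symm)

end GrothLib.LinesPt28
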