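import Groth.Agent.Lib.LinesPt28.Pencil
import Groth.Agent.Lib.SerrePn27.Generic
import Groth.Agent.Lib.SerrePn27.HomTwist

/-!
# Bundles trivial on all lines through a point
-/

set_option autoImplicit false
set_option linter.all false
set_option maxHeartbeats 1600000
set_option backward.isDefEq.respectTransparency false

universe u

open CategoryTheory CategoryTheory.Limits AlgebraicGeometry TopologicalSpace Opposite
open GrothLib.CMReg (Ft)
open GrothLib.ASBun21
open GrothLib.Cohom (hhMap hhDelta)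

noncomputable section

namespace GrothLib.LinesPt28

variable {k : Type u} [Field k]

/-- The hypothesis: trivial on all lines through `x`. -/
def TrivLines (n r : ℕ) (E : (CohB1.ProjSpace n k).Modules) (x : ↥(CohB1.ProjSpace n k)) : Prop :=
  ∀ (i : CohB1.ProjSpace 1 k ⟶ CohB1.ProjSpace n k) [IsClosedImmersion i],
    i ≫ CohB1.ProjSpace.toSpec n k = CohB1.ProjSpace.toSpec 1 k →
    Nonempty ((Scheme.Modules.pullback i).obj (Twist.twistProjSpace n k 1) ≅ Twist.twistProjSpace 1 k 1) →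
    x ∈ Set.range i.base →
    Nonempty ((Scheme.Modules.pullback i).obj E ≅ FlatMod.freeMod (CohB1.ProjSpace 1 k) r)

def freeSplit (n r : ℕ) :
    FlatMod.freeMod (CohB1.ProjSpace n k) r ≅ Horrocks.split n k (fun _ : Fin r => (0 : ℤ)) :=
  Sigma.mapIso fun _ => CMReg.nonempty_twist_zero.some.symm

/-- Vanishing of the twists of a trivial bundle on the line. -/
theorem subsingleton_free_P1 (r : ℕ) (d : ℤ) (q : ℕ) (hq : (q = 0 ∧ d < 0) ∨ (q = 1 ∧ -1 ≤ d)) :
    Subsingleton (Coh.HH (CohB1.ProjSpace 1 k) (Ft (FlatMod.freeMod (CohB1.ProjSpace 1 k) r) d) q) := by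
  let a : Fin r → ℤ := fun _ => 0
  refine CMReg.subsingleton_of_iso ((CMReg.ftFun d).mapIso (freeSplit 1 r) ≪≫ (Horrocks.nonempty_Ft_split a d).some).symm
    (CMReg.subsingleton_HH_sigma _ fun l => ProjCohom.subsingleton_HH (fun h => ?_) (fun h => ?_))
  · simp [a] at *
    omega
  · simp [a] at *
    omega

/-- The split bundle on the line isomorphic to a trivial one has all twists zero. -/
theorem split_zero {r : ℕ} {b : Fin r → ℤ}
    (e : Horrocks.split 1 k b ≅ FlatMod.freeMod (CohB1.ProjSpace 1 k) r) (l : Fin r) : b l = 0 := by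
  classical
  let F := fun m => Twist.twistProjSpace 1 k (b m + -1)
  have hs : ∀ q : ℕ, q = 0 ∨ q = 1 → Subsingleton (Coh.HH (CohB1.ProjSpace 1 k) (F l) q) := fun q hq => by
    have h : Subsingleton (Coh.HH (CohB1.ProjSpace 1 k) (∐ F) q) :=
      CMReg.subsingleton_of_iso ((Horrocks.nonempty_Ft_split b (-1)).some.symm ≪≫ (CMReg.ftFun (-1)).mapIso e).symm
        (subsingleton_free_P1 r (-1) q (by rcases hq with rfl | rfl <;> omega))
    let ret : (∐ F) ⟶ F l := Sigma.desc fun m => if hm : m = l then eqToHom (by rw [hm]) else 0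
    have hret : Sigma.ι F l ≫ ret = 𝟙 _ := by simp [ret]
    refine ⟨fun x y => ?_⟩
    letI : (CohB1.ProjSpace 1 k).Over (Spec (CommRingCat.of k)) := ⟨CohB1.ProjSpace.toSpec 1 k⟩
    have hz : ∀ z : Coh.HH (CohB1.ProjSpace 1 k) (F l) q,
        hhMap k ret q (hhMap k (Sigma.ι F l) q z) = z := fun z => by
      rw [← SerrePn27.hhMap_comp, hret, Cohom.hhMap_apply, CategoryTheory.Functor.map_id]
      exact Sheaf.H.map_id_apply _
    rw [← hz x, ← hz y, h.elim (hhMap k (Sigma.ι F l) q x) (hhMap k (Sigma.ι F l) q y)]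
  by_contra hne
  rcases lt_or_gt_of_ne hne with hlt | hgt
  · haveI := hs 1 (Or.inr rfl)
    have h := (CI20.finrank_Htop (k := k) 1 le_rfl (b l + -1)).2
    rw [Module.finrank_zero_of_subsingleton, eq_comm, Nat.choose_eq_zero_iff] at h
    omega
  · haveI := hs 0 (Or.inl rfl)
    have h := (CI20.finrank_H0 (k := k) 1 le_rfl (b l + -1)).2
    rw [Module.finrank_zero_of_subsingleton, eq_comm, Nat.choose_eq_zero_iff] at h
    omega

theorem isClosed_of_map {X Y : Scheme.{u}} (j : Y ⟶ X) [IsClosedImmersion j] {x : X} (hx : IsClosed ({x} : Set X))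
    {y : Y} (hy : j.base y = x) : IsClosed ({y} : Set Y) := by
  have h : ({y} : Set Y) = j.base ⁻¹' {x} :=
    Set.ext fun z => ⟨fun hz => by rw [Set.mem_singleton_iff.1 hz]; exact hy,
      fun hz => j.isClosedEmbedding.injective ((Set.mem_singleton_iff.1 hz).trans hy.symm)⟩
  rw [h]
  exact hx.preimage j.base.hom.continuous

/-- Tensoring a linear family of maps twice. -/
def mult2 {X : Scheme.{u}} [X.Over (Spec (CommRingCat.of k))] (E D A B : X.Modules) {V : Type u} [AddCommGroup V]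
    [Module k V] (φ : V →ₗ[k] (A ⟶ B)) :
    V →ₗ[k] ((Euler.tF D).obj ((Euler.tF E).obj A) ⟶ (Euler.tF D).obj ((Euler.tF E).obj B)) :=
  haveI : (Euler.tF E).Linear k := SerrePn27.linear_tF E
  haveI : (Euler.tF D).Linear k := SerrePn27.linear_tF D
  (((Euler.tF D).mapLinearMap k).comp ((Euler.tF E).mapLinearMap k)).comp φ

variable [IsAlgClosed k]

/-- The plane case. -/
theorem triv_plane (r : ℕ) (E : (CohB1.ProjSpace 2 k).Modules) (hE : FlatMod.IsFinLocFreeOfRank r E)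
    (x : ↥(CohB1.ProjSpace 2 k)) (hx : IsClosed ({x} : Set ↥(CohB1.ProjSpace 2 k))) (h : TrivLines 2 r E x) :
    Nonempty (E ≅ FlatMod.freeMod (CohB1.ProjSpace 2 k) r) := by
  classical
  letI : (CohB1.ProjSpace 2 k).Over (Spec (CommRingCat.of k)) := ⟨CohB1.ProjSpace.toSpec 2 k⟩
  haveI : IsProper (CohB1.ProjSpace 2 k ↘ Spec (CommRingCat.of k)) := Chow.isProper_toSpec 2 k
  obtain ⟨c₁, c₂, hind, hpt⟩ := exists_pencil (r := 2) le_rfl hx
  have hEl := FinCov.isFinLocFree_of_rank hE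
  let X₁ : ℤ → (CohB1.ProjSpace 2 k).Modules := fun d =>
    (Euler.tF (Twist.twistProjSpace 2 k d)).obj ((Euler.tF E).obj (Twist.twistProjSpace 2 k (-1)))
  let X₂ : ℤ → (CohB1.ProjSpace 2 k).Modules := fun d =>
    (Euler.tF (Twist.twistProjSpace 2 k d)).obj ((Euler.tF E).obj (Coh.structureModule (CohB1.ProjSpace 2 k)))
  let e1 : ∀ d, X₁ d ≅ Ft E (d - 1) := fun d =>
    (HorrocksGen.firstIso (Twist.twistProjSpace 2 k (-1)) (Twist.twistProjSpace 2 k d) _ (Horrocks.downIso 2 k d)).app E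
  let e2 : ∀ d, X₂ d ≅ Ft E d := fun d =>
    (Euler.tF (Twist.twistProjSpace 2 k d)).mapIso (OX.tensorUnitLeftIso E)
  let μ : ∀ d : ℤ, (Fin (2 + 1) → k) →ₗ[k] (X₁ d ⟶ X₂ d) := fun d =>
    mult2 E (Twist.twistProjSpace 2 k d) (Twist.twistProjSpace 2 k (-1)) (Coh.structureModule (CohB1.ProjSpace 2 k)) (iota 2 k)
  -- the sequence of a form in the pencil
  have key : ∀ a b : k, (a ≠ 0 ∨ b ≠ 0) → ∃ T : ℤ → (CohB1.ProjSpace 2 k).Modules,
      (∀ d, ∃ (g : X₂ d ⟶ T d) (w : μ d (a • c₁ + b • c₂) ≫ g = 0),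
        (ShortComplex.mk (μ d (a • c₁ + b • c₂)) g w).ShortExact) ∧
      ∀ d q, ((q = 0 ∧ d < 0) ∨ (q = 1 ∧ -1 ≤ d)) → Subsingleton (Coh.HH (CohB1.ProjSpace 2 k) (T d) q) := by
    intro a b hab
    obtain ⟨j, hjc, hker, hj, hej⟩ := exists_hyperplane (a • c₁ + b • c₂) (hind a b hab)
    haveI := hjc
    obtain ⟨w, hS⟩ := exists_seq_iota (a • c₁ + b • c₂) (hind a b hab) j hker
    let S := fun d => HorrocksGen.twSeq j (iota 2 k (a • c₁ + b • c₂)) w E (Twist.twistProjSpace 2 k d)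
    refine ⟨fun d => (S d).X₃, fun d => ⟨(S d).g, (S d).zero,
      HorrocksGen.twSeq_shortExact j _ w hS hEl (Horrocks.locFree_twist d)⟩, fun d q hq => ?_⟩
    obtain ⟨gY⟩ := CMReg.nonempty_pullback_twist hej d
    obtain ⟨e3⟩ := HorrocksGen.nonempty_thirdTerm j (iota 2 k (a • c₁ + b • c₂)) w hEl (Horrocks.locFree_twist d) gY
    let F := CohB1.tensorMod ((Scheme.Modules.pullback j).obj E) (Twist.twistProjSpace 1 k d)
    haveI : F.IsQuasicoherent := (CMReg.isCoh_Ft (Euler.isCoh_of_isFinLocFree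
      (FinCov.isFinLocFree_of_rank (OX.isFinLocFreeOfRank_pullback j hE))) d).1
    obtain ⟨eq⟩ := Cohom.nonempty_HH_equiv_pushforward j F q
    obtain ⟨et⟩ := h j hj hej (hpt a b j hker)
    haveI : Subsingleton (Coh.HH (CohB1.ProjSpace 1 k) F q) :=
      CMReg.subsingleton_of_iso ((CMReg.ftFun d).mapIso et).symm (subsingleton_free_P1 r d q hq)
    exact CMReg.subsingleton_of_iso e3.symm eq.symm.toEquiv.subsingleton
  obtain ⟨T, hT, hTv⟩ := key 1 0 (Or.inl one_ne_zero)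
  -- bijectivity of the multiplications in degree one
  have hbij : ∀ a b : k, (a ≠ 0 ∨ b ≠ 0) → Function.Bijective (hhMap k (μ (-1) (a • c₁ + b • c₂)) 1) := by
    intro a b hab
    obtain ⟨T', hT', hT'v⟩ := key a b hab
    obtain ⟨g, w, hS⟩ := hT' (-1)
    haveI h30 := hT'v (-1) 0 (Or.inl ⟨rfl, by omega⟩)
    haveI h31 := hT'v (-1) 1 (Or.inr ⟨rfl, le_rfl⟩)
    refine ⟨(injective_iff_map_eq_zero _).2 fun z hz => ?_, fun z => ((Cohom.exact₂ (A := k) hS 1) z).1 (Subsingleton.elim _ _)⟩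
    obtain ⟨y, rfl⟩ := ((Cohom.exact₁ (A := k) hS 0) z).1 hz
    rw [show y = 0 from @Subsingleton.elim _ h30 y 0, map_zero]
  have hc1 : Coh.IsCoh (X₁ (-1)) := QCoh.isCoh_of_iso (e1 (-1)).symm (CMReg.isCoh_Ft (Euler.isCoh_of_isFinLocFree hEl) _)
  haveI : FiniteDimensional k (Coh.HH (CohB1.ProjSpace 2 k) (X₁ (-1)) 1) := Euler.finiteDimensional_HH k hc1 1
  have h11 : Subsingleton (Coh.HH (CohB1.ProjSpace 2 k) (X₁ (-1)) 1) := by
    by_contra hns
    haveI := not_subsingleton_iff_nontrivial.1 hns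
    let A := LinearEquiv.ofBijective _ (hbij 1 0 (Or.inl one_ne_zero))
    obtain ⟨c, hc⟩ := Module.End.exists_eigenvalue
      (A.symm.toLinearMap.comp (hhMap k (μ (-1) ((0 : k) • c₁ + (1 : k) • c₂)) 1))
    obtain ⟨v, hv⟩ := hc.exists_hasEigenvector
    refine hv.2 ((hbij (-c) 1 (Or.inr one_ne_zero)).1 ?_)
    rw [map_zero]
    have hB : hhMap k (μ (-1) ((0 : k) • c₁ + (1 : k) • c₂)) 1 v =
        c • hhMap k (μ (-1) ((1 : k) • c₁ + (0 : k) • c₂)) 1 v := by
      have h3 := congrArg A hv.apply_eq_smul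
      rw [LinearMap.comp_apply, LinearEquiv.coe_coe, A.apply_symm_apply, map_smul] at h3
      exact h3
    rw [map_add, map_smul, map_smul] at hB ⊢
    simp only [SerrePn27.hhMap_add, SerrePn27.hhMap_smul, LinearMap.add_apply, LinearMap.smul_apply] at hB ⊢
    simp only [map_add, map_smul, SerrePn27.hhMap_add, SerrePn27.hhMap_smul, LinearMap.add_apply, LinearMap.smul_apply,
      zero_smul, zero_add, one_smul, add_zero] at hB ⊢
    rw [hB, neg_smul, neg_add_cancel]
  have h21 : Subsingleton (Coh.HH (CohB1.ProjSpace 2 k) (X₂ (-1)) 1) :=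
    (hbij 1 0 (Or.inl one_ne_zero)).2.subsingleton
  have hbase : ∀ d : ℤ, d = -2 ∨ d = -1 → Subsingleton (Coh.HH (CohB1.ProjSpace 2 k) (Ft E d) 1) := fun d hd => by
    rcases hd with rfl | rfl
    · rw [show (-2 : ℤ) = -1 - 1 by norm_num]
      exact CMReg.subsingleton_of_iso (e1 (-1)) h11
    · exact CMReg.subsingleton_of_iso (e2 (-1)) h21
  have up : ∀ m : ℕ, Subsingleton (Coh.HH (CohB1.ProjSpace 2 k) (Ft E (-1 + m)) 1) := by
    intro m
    induction m with
    | zero => exact hbase _ (Or.inr (by simp))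
    | succ m ih =>
      obtain ⟨g, w, hS⟩ := hT (-1 + (m + 1 : ℕ))
      refine CMReg.subsingleton_of_iso (e2 _) (CMReg.subsingleton_X₂ hS ?_ (hTv _ 1 (Or.inr ⟨rfl, by omega⟩)))
      refine CMReg.subsingleton_of_iso (e1 _).symm ?_
      rwa [show -1 + ((m + 1 : ℕ) : ℤ) - 1 = -1 + (m : ℤ) by push_cast; ring]
  have down : ∀ m : ℕ, Subsingleton (Coh.HH (CohB1.ProjSpace 2 k) (Ft E (-2 - m)) 1) := by
    intro m
    induction m with
    | zero => exact hbase _ (Or.inl (by simp))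
    | succ m ih =>
      obtain ⟨g, w, hS⟩ := hT (-2 - (m : ℤ))
      rw [show -2 - ((m + 1 : ℕ) : ℤ) = -2 - (m : ℤ) - 1 by push_cast; ring]
      exact CMReg.subsingleton_of_iso (e1 _)
        (CMReg.subsingleton_X₁_succ hS (hTv _ 0 (Or.inl ⟨rfl, by omega⟩)) (CMReg.subsingleton_of_iso (e2 _).symm ih))
  obtain ⟨b, ⟨eb⟩⟩ := Horrocks.exists_split 2 (by omega) r E hE fun i d hi hi2 => by
    obtain rfl : i = 1 := by omega
    rcases le_or_gt (-1) d with hd | hd
    · have := up (d + 1).toNat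
      rwa [show -1 + ((d + 1).toNat : ℤ) = d by omega] at this
    · have := down (-2 - d).toNat
      rwa [show -2 - ((-2 - d).toNat : ℤ) = d by omega] at this
  obtain ⟨j, hjc, hker, hj, hej⟩ := exists_hyperplane ((1 : k) • c₁ + (0 : k) • c₂) (hind 1 0 (Or.inl one_ne_zero))
  haveI := hjc
  obtain ⟨et⟩ := h j hj hej (hpt 1 0 j hker)
  let es : Horrocks.split 1 k b ≅ FlatMod.freeMod (CohB1.ProjSpace 1 k) r :=
    (Sigma.mapIso fun l => (CMReg.nonempty_pullback_twist hej (b l)).some).symm ≪≫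
      (PreservesCoproduct.iso (Scheme.Modules.pullback j) _).symm ≪≫
      (Scheme.Modules.pullback j).mapIso eb.symm ≪≫ et
  obtain rfl : b = fun _ => 0 := funext (split_zero es)
  exact ⟨eb ≪≫ (freeSplit 2 r).symm⟩

/-- A plane through the point on which the bundle is trivial. -/
theorem exists_plane : ∀ (n : ℕ), 2 ≤ n → ∀ (r : ℕ) (E : (CohB1.ProjSpace n k).Modules),
    FlatMod.IsFinLocFreeOfRank r E → ∀ x : ↥(CohB1.ProjSpace n k), IsClosed ({x} : Set ↥(CohB1.ProjSpace n k)) →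
    TrivLines n r E x →
    ∃ i : CohB1.ProjSpace 2 k ⟶ CohB1.ProjSpace n k, IsClosedImmersion i ∧
      i ≫ CohB1.ProjSpace.toSpec n k = CohB1.ProjSpace.toSpec 2 k ∧
      Nonempty ((Scheme.Modules.pullback i).obj (Twist.twistProjSpace n k 1) ≅ Twist.twistProjSpace 2 k 1) ∧
      x ∈ Set.range i.base ∧
      Nonempty ((Scheme.Modules.pullback i).obj E ≅ FlatMod.freeMod (CohB1.ProjSpace 2 k) r) := by
  intro n hn
  induction n, hn using Nat.le_induction with
  | base =>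
    intro r E hE x hx h
    obtain ⟨e⟩ := triv_plane r E hE x hx h
    exact ⟨𝟙 _, inferInstance, Category.id_comp _, ⟨(Scheme.Modules.pullbackId _).app _⟩, ⟨x, rfl⟩,
      ⟨(Scheme.Modules.pullbackId _).app _ ≪≫ e⟩⟩
  | succ n hn ih =>
    intro r E hE x hx h
    obtain ⟨c₁, c₂, hind, hpt⟩ := exists_pencil (r := n + 1) (by omega) hx
    obtain ⟨j, hjc, hker, hj, hej⟩ := exists_hyperplane ((1 : k) • c₁ + (0 : k) • c₂) (hind 1 0 (Or.inl one_ne_zero))
    haveI := hjc
    obtain ⟨y, hy⟩ := hpt 1 0 j hker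
    let pc : ∀ {m : ℕ} (i : CohB1.ProjSpace m k ⟶ CohB1.ProjSpace n k) M,
        (Scheme.Modules.pullback i).obj ((Scheme.Modules.pullback j).obj M) ≅ (Scheme.Modules.pullback (i ≫ j)).obj M :=
      fun i M => (Scheme.Modules.pullbackComp i j).app M
    have h' : TrivLines n r ((Scheme.Modules.pullback j).obj E) y := by
      intro i _ hi hO hyi
      obtain ⟨z, hz⟩ := hyi
      obtain ⟨e⟩ := h (i ≫ j) (by rw [Category.assoc, hj, hi])
        ⟨(pc i _).symm ≪≫ (Scheme.Modules.pullback i).mapIso hej.some ≪≫ hO.some⟩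
        ⟨z, by rw [Scheme.Hom.comp_base]; simp [hz, hy]⟩
      exact ⟨pc i E ≪≫ e⟩
    obtain ⟨i, hic, hi, hO, ⟨z, hz⟩, ⟨e⟩⟩ :=
      ih r _ (OX.isFinLocFreeOfRank_pullback j hE) y (isClosed_of_map j hx hy) h'
    haveI := hic
    exact ⟨i ≫ j, inferInstance, by rw [Category.assoc, hj, hi],
      ⟨(pc i _).symm ≪≫ (Scheme.Modules.pullback i).mapIso hej.some ≪≫ hO.some⟩,
      ⟨z, by rw [Scheme.Hom.comp_base]; simp [hz, hy]⟩, ⟨(pc i E).symm ≪≫ e⟩⟩

end GrothLib.LinesPt28
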